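import Groth.Agent.Lib.Helper19.DimProper.Top
import Groth.Agent.Lib.Helper14.DimClosure
import Groth.Agent.Lib.Helper14.FibreComp
import Groth.Agent.Lib.Helper15.AlgSpDecent2
import Groth.Agent.Lib.Helper15.SoberDecent
import Groth.Agent.Lib.Helper15.TrdegQF
import Groth.Prelude.Def_AlgSpDec

/-!
# `dim X ≥ dim Y + r` for closed dominant morphisms of decent spaces
-/

set_option autoImplicit false
set_option linter.style.haveILetI false
universe u
open CategoryTheory CategoryTheory.Limits AlgebraicGeometry TopologicalSpace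
open AlgSp Groth.Agent.Helper15

namespace Groth.Agent.Helper19.DimProper

/-- a chain of length `trdeg κ(u)/κ(h u)` of specializations inside the fibre through `u` -/
theorem exists_chain_fibre {U V : Scheme.{u}} (h : U ⟶ V) [LocallyOfFiniteType h] (u : U) (r : ℕ)
    (hr : Dual3.resTrdeg h u = r) :
    ∃ c : Fin (r + 1) → U, (∀ i j, i < j → c j ⤳ c i ∧ c i ≠ c j) ∧ ∀ i, h (c i) = h u := by
  set g := h.fiberToSpecResidueField (h u) with hg
  haveI : LocallyOfFiniteType g := MorphismProperty.pullback_snd _ _ inferInstance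
  obtain ⟨z, hι⟩ : ∃ z : ↥(h.fiber (h u)), h.fiberι (h u) z = u := ⟨_, h.fiberι_asFiber u⟩
  have htr : Groth.Agent.Helper14.DimClosure.trdegFun g z = r := by
    apply Groth.Agent.Helper14.DimClosure.trdegFun_eq
    rw [← Groth.Agent.Helper14.FibreComp.trdeg_fibre h (h u) z]
    have hr' : @Algebra.trdeg (V.residueField (h u)) (U.residueField u) _ _
      (h.residueFieldMap u).hom.toAlgebra = r := hr
    revert hr'
    generalize h.fiberι (h u) z = w at hι
    subst hι
    exact id
  have hdim := Groth.Agent.Helper14.DimClosure.dim_closure_eq (V.residueField (h u)) g z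
  rw [htr, Int.toNat_natCast] at hdim
  have hle : ((r : ℕ) : WithBot ℕ∞) ≤ topologicalKrullDim ↥(h.fiber (h u)) :=
    hdim ▸ topologicalKrullDim_subspace_le _ _
  obtain ⟨c₀, hc₀⟩ := exists_chain_of_le_topDim r hle
  refine ⟨fun i => h.fiberι (h u) (c₀ i), fun i j hij => ⟨?_, fun he => ?_⟩, fun i => ?_⟩
  · exact (hc₀ i j hij).1.map (h.fiberι (h u)).continuous
  · exact (hc₀ i j hij).2 ((h.fiberι (h u)).isEmbedding.injective he)
  · have hmem : h.fiberι (h u) (c₀ i) ∈ Set.range (h.fiberι (h u)) := ⟨_, rfl⟩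
    rw [h.range_fiberι (h u)] at hmem
    exact hmem

variable {S : Scheme.{u}}

/-- for a closed morphism locally of finite type between decent spaces such that the image of `x`
is a generic point of `|Y|`, `dim |Y| + trdeg ≤ dim |X|` -/
theorem topDim_add_le_of_closed {X Y : Sp S} (hXa : IsAlgSpace X) (hYa : IsAlgSpace Y)
    (hX : IsDecent X) (hY : IsDecent Y) (f : X ⟶ Y) (hf : LocP @LocallyOfFiniteType f)
    (hcl : IsClosedMap (Points.map f)) (x : Points X) (hη : ∀ y, Points.map f x ⤳ y) (r : ℕ)
    (hr : HasAtMor (fun _ _ h u => Dual3.resTrdeg h u = (r : Cardinal.{u})) f x) :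
    topologicalKrullDim (Points Y) + ((r : ℕ∞) : WithBot ℕ∞) ≤ topologicalKrullDim (Points X) := by
  haveI := t0Space_points_of_isDecent hXa hX
  haveI := t0Space_points_of_isDecent hYa hY
  haveI := SoberDecent.quasiSober_points_of_isDecent hXa hX
  haveI := SoberDecent.quasiSober_points_of_isDecent hYa hY
  obtain ⟨U, V, a, b, h, u, ha, hb, comm, hx, hru⟩ := hr
  haveI : LocallyOfFiniteType h.left := hf a b h ha hb comm
  obtain ⟨c, hc, hch⟩ := exists_chain_fibre h.left u r hru
  refine topDim_add_le (Points.map f) hcl (Points.map f x) hη r (fun i => Points.ofPt a (c i))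
    (fun i j hij => ⟨?_, fun he => ?_⟩) ?_
  · exact (hc i j hij).1.map (Points.continuous_ofPt a)
  · exact (hc i j hij).2
      (eq_of_specializes_of_ofPt_eq_of_isDecent hX a ha (c i) (c j) he (hc i j hij).1)
  · change Points.map f (Points.ofPt a (c 0)) = Points.map f x
    rw [Points.map_ofPt, comm, ofPt_comp_yon_map, ← hx, Points.map_ofPt, comm, ofPt_comp_yon_map]
    exact congrArg _ (hch 0)

end Groth.Agent.Helper19.DimProper
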