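import Mathlib
import Groth.Agent.Lib.Helper19.DimFun.Decent

/-!
# Dimension and closed maps: a topological lemma
-/

set_option autoImplicit false
set_option linter.style.haveILetI false
universe u
open TopologicalSpace

namespace Groth.Agent.Helper19.DimProper

section top
variable {A B : Type*} [TopologicalSpace A] [TopologicalSpace B]

/-- lifting chains of specializations along closed maps -/
theorem exists_ltSeries_lift [T0Space A] [T0Space B] (φ : A → B) (hφ : IsClosedMap φ) :
    letI := specializationOrder A
    letI := specializationOrder B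
    ∀ (n : ℕ) (p : LTSeries B), p.length = n → ∀ a : A, φ a ⤳ p.last →
      ∃ q : LTSeries A, q.length = n ∧ a ⤳ q.last ∧ φ q.last = p.last := by
  letI := specializationOrder A
  letI := specializationOrder B
  intro n
  induction n with
  | zero =>
    intro p hp a ha
    obtain ⟨a', haa', ha'⟩ :=
      Groth.Agent.Helper19.DimFunSp.exists_specializes_of_isClosedMap φ hφ ha a rfl
    exact ⟨RelSeries.singleton _ a', rfl, haa', ha'⟩
  | succ n ih =>
    intro p hp a ha
    obtain ⟨a', haa', ha'⟩ :=
      Groth.Agent.Helper19.DimFunSp.exists_specializes_of_isClosedMap φ hφ ha a rfl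
    have hne : p.length ≠ 0 := by omega
    have hlt : p.eraseLast.last < p.last := p.eraseLast_last_rel_last hne
    have hle : φ a' ⤳ p.eraseLast.last := by rw [ha']; exact hlt.le
    obtain ⟨q', hq'len, hq'a, hq'φ⟩ := ih p.eraseLast (by simp [hp]) a' hle
    have hq'lt : q'.last < a' := by
      refine lt_of_le_of_ne hq'a ?_
      intro heq
      rw [heq, ha'] at hq'φ
      exact hlt.ne hq'φ.symm
    refine ⟨q'.snoc a' hq'lt, by simp [hq'len], ?_, ?_⟩
    · rw [RelSeries.last_snoc]; exact haa'
    · rw [RelSeries.last_snoc]; exact ha'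

/-- a chain of points realising a lower bound of the dimension -/
theorem exists_chain_of_le_topDim {T : Type*} [TopologicalSpace T] [T0Space T] [QuasiSober T]
    (n : ℕ) (h : (n : WithBot ℕ∞) ≤ topologicalKrullDim T) :
    ∃ c : Fin (n + 1) → T, ∀ i j, i < j → c j ⤳ c i ∧ c i ≠ c j := by
  letI := specializationOrder T
  unfold topologicalKrullDim at h
  rw [Order.krullDim_eq_of_orderIso (irreducibleSetEquivPoints (α := T))] at h
  obtain ⟨l, hl⟩ := Order.le_krullDim_iff.mp h
  refine ⟨fun i => l (Fin.cast (by rw [hl]) i), fun i j hij => ?_⟩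
  have hlt : l (Fin.cast (by rw [hl]) i) < l (Fin.cast (by rw [hl]) j) :=
    l.strictMono (by simpa using hij)
  exact ⟨hlt.le, hlt.ne⟩

/-- a closed map to an irreducible space which has a chain of length `r` in the fibre over the
generic point raises the dimension by at least `r` -/
theorem topDim_add_le [T0Space A] [T0Space B] [QuasiSober A] [QuasiSober B] (φ : A → B)
    (hφ : IsClosedMap φ) (η : B) (hη : ∀ b, η ⤳ b) (r : ℕ)
    (c : Fin (r + 1) → A) (hc : ∀ i j, i < j → c j ⤳ c i ∧ c i ≠ c j) (h0 : φ (c 0) = η) :
    topologicalKrullDim B + ((r : ℕ∞) : WithBot ℕ∞) ≤ topologicalKrullDim A := by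
  letI := specializationOrder A
  letI := specializationOrder B
  have hcm : StrictMono c := fun i j hij => lt_of_le_of_ne (hc i j hij).1 (hc i j hij).2
  obtain ⟨C, hCr, hCη⟩ : ∃ C : LTSeries A, C.length = r ∧ φ C.head = η :=
    ⟨LTSeries.mk r c hcm, rfl, h0⟩
  have key : ∀ n : ℕ, (n : WithBot ℕ∞) ≤ topologicalKrullDim B →
      ((n + r : ℕ) : WithBot ℕ∞) ≤ topologicalKrullDim A := by
    intro n hn
    unfold topologicalKrullDim at hn ⊢
    rw [Order.krullDim_eq_of_orderIso (irreducibleSetEquivPoints (α := B))] at hn
    rw [Order.krullDim_eq_of_orderIso (irreducibleSetEquivPoints (α := A))]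
    obtain ⟨p, hp⟩ := Order.le_krullDim_iff.mp hn
    obtain ⟨q, hq, hqa, hqφ⟩ := exists_ltSeries_lift φ hφ n p hp C.head
      (by rw [hCη]; exact hη _)
    rcases eq_or_lt_of_le (show q.last ≤ C.head from hqa) with h | h
    · have h1 := Order.LTSeries.length_le_krullDim (q.smash C h)
      rw [RelSeries.smash_length, hq, hCr] at h1
      exact h1
    · have h1 := Order.LTSeries.length_le_krullDim (q.append C h)
      rw [RelSeries.append_length, hq, hCr] at h1
      refine le_trans ?_ h1
      exact_mod_cast Nat.le_succ _
  have e2 : ((r : ℕ∞) : WithBot ℕ∞) = (r : WithBot ℕ∞) := rfl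
  rw [e2]
  generalize hb : topologicalKrullDim B = b at key
  induction b using WithBot.recBotCoe with
  | bot => rw [WithBot.bot_add]; exact bot_le
  | coe b =>
    induction b using ENat.recTopCoe with
    | top =>
      have htop : topologicalKrullDim A = ⊤ := by
        rw [ENat.WithBot.eq_top_iff_forall_ge]
        intro m
        refine le_trans ?_ (key m le_top)
        exact_mod_cast Nat.le_add_right m r
      rw [htop]
      exact le_top
    | coe n =>
      have := key n le_rfl
      exact_mod_cast this

end top

end Groth.Agent.Helper19.DimProper
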